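import Groth.Agent.MinNonSchLib.Ring
import Groth.Agent.AlgSpLib.SepLqfScheme
import Groth.Agent.AlgSpLib.MorPack
import Groth.Agent.AlgSpLib.FpqcMore
import Groth.Agent.AlgSpLib.Reduced
import Groth.Agent.AlgSpLib.Qc
import Groth.Agent.AlgSpLib.Descend
import Groth.Agent.ThickQuotLib.AffineData
/-!
# A reduced space which is the union of two closed affine schemes is a scheme
-/

set_option autoImplicit false
set_option linter.all false
set_option backward.isDefEq.respectTransparency false
set_option backward.isDefEq.respectTransparency.types false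

noncomputable section

universe u

open CategoryTheory CategoryTheory.Limits AlgebraicGeometry AlgSp AlgSpLib

namespace MinNonSchLib

/-- Maps out of a reduced scheme into a separated one agree if they agree on a covering pair. -/
theorem ext_of_two {X Y A B : Scheme.{u}} [IsReduced X] [Y.IsSeparated] {f g : X ⟶ Y} (a : A ⟶ X) (b : B ⟶ X)
    (hs : ∀ x, x ∈ Set.range a ∨ x ∈ Set.range b) (ha : a ≫ f = a ≫ g) (hb : b ≫ f = b ≫ g) : f = g := by
  haveI : Surjective (coprod.desc a b) := ⟨fun x => by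
    rcases hs x with ⟨y, rfl⟩ | ⟨y, rfl⟩
    · exact ⟨(coprod.inl : A ⟶ A ⨿ B) y, by rw [← Scheme.Hom.comp_apply, coprod.inl_desc]⟩
    · exact ⟨(coprod.inr : B ⟶ A ⨿ B) y, by rw [← Scheme.Hom.comp_apply, coprod.inr_desc]⟩⟩
  exact ext_of_isDominant (coprod.desc a b) (coprod.hom_ext (by simpa using ha) (by simpa using hb))

/-- Global functions of a reduced scheme are determined on a covering pair. -/
theorem eq_zero_of_two {X A B : Scheme.{u}} [IsReduced X] (a : A ⟶ X) (b : B ⟶ X)
    (hs : ∀ x, x ∈ Set.range a ∨ x ∈ Set.range b) (t : Γ(X, ⊤)) (ha : a.appTop.hom t = 0)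
    (hb : b.appTop.hom t = 0) : t = 0 := by
  have key : ∀ {W : Scheme.{u}} (w : W ⟶ X), w.appTop.hom t = 0 → ∀ y, w y ∉ X.basicOpen t := fun {W} w hw y hy => by
    have h : y ∈ w ⁻¹ᵁ X.basicOpen t := hy
    rw [Scheme.preimage_basicOpen_top, hw, Scheme.basicOpen_zero] at h
    exact h
  refine eq_zero_of_basicOpen_eq_bot t (eq_bot_iff.2 fun x hx => ?_)
  rcases hs x with ⟨y, rfl⟩ | ⟨y, rfl⟩
  exacts [(key a ha y hx).elim, (key b hb y hx).elim]

variable {S : Scheme.{u}}

theorem pullback_map_closed {T X Y X' Y' : Over S} {f : X ⟶ T} {g : Y ⟶ T} {f' : X' ⟶ T} {g' : Y' ⟶ T}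
    {a : X ⟶ X'} {b : Y ⟶ Y'} [IsClosedImmersion a.left] [IsClosedImmersion b.left] (ha : f = a ≫ f')
    (hb : g = b ≫ g') :
    IsClosedImmersion (pullback.map f g f' g' a b (𝟙 T) (by simp [ha]) (by simp [hb])).left := by
  let m := pullback.map f g f' g' a b (𝟙 T) (by simp [ha]) (by simp [hb])
  have s1 : IsPullback (pullback.fst f g).left (pullback.snd f g).left f.left g.left :=
    (IsPullback.of_hasPullback f g).map (Over.forget S)
  have s2 : IsPullback (pullback.fst f' g').left (pullback.snd f' g').left f'.left g'.left :=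
    (IsPullback.of_hasPullback f' g').map (Over.forget S)
  let M := pullback.map f.left g.left f'.left g'.left a.left b.left (𝟙 T.left) (by simp [ha]) (by simp [hb])
  have hM : IsClosedImmersion M :=
    MorphismProperty.pullbackMap (P := (@IsClosedImmersion : MorphismProperty Scheme.{u})) (i₁ := a.left)
      (i₂ := b.left) inferInstance inferInstance (by simp [ha]) (by simp [hb])
  have e : s1.isoPullback.inv ≫ m.left ≫ s2.isoPullback.hom = M := by
    apply pullback.hom_ext
    · simp only [M, Category.assoc, IsPullback.isoPullback_hom_fst, pullback.lift_fst]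
      rw [← Over.comp_left, pullback.lift_fst, Over.comp_left, s1.isoPullback_inv_fst_assoc]
    · simp only [M, Category.assoc, IsPullback.isoPullback_hom_snd, pullback.lift_snd]
      rw [← Over.comp_left, pullback.lift_snd, Over.comp_left, s1.isoPullback_inv_snd_assoc]
  rw [← e, MorphismProperty.cancel_left_of_respectsIso (P := @IsClosedImmersion),
    MorphismProperty.cancel_right_of_respectsIso (P := @IsClosedImmersion)] at hM
  exact hM

/-- A reduced space which is the union of two closed subspaces which are affine schemes lying over an affine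
open of the base is a scheme. -/
theorem isRepSh_of_two_affine {O : Sp S} (hO : IsAlgSpace O) (hr : IsReducedSp O) {Z1 Z2 : Over S}
    [IsAffine Z1.left] [IsAffine Z2.left] {i1 : (yon S).obj Z1 ⟶ O} {i2 : (yon S).obj Z2 ⟶ O}
    (hi1 : RepWith @IsClosedImmersion i1) (hi2 : RepWith @IsClosedImmersion i2)
    (hcov : ∀ x, x ∈ Set.range (Points.ofPt i1) ∨ x ∈ Set.range (Points.ofPt i2))
    (S0 : S.Opens) (hS0 : IsAffineOpen S0) (hz1 : ∀ z, Z1.hom z ∈ S0) (hz2 : ∀ z, Z2.hom z ∈ S0) : IsRepSh O := by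
  haveI : IsAffine S0.toScheme := hS0
  -- the intersection
  obtain ⟨Z12, a1, a2, sq12⟩ := exists_isPullback_yon i1 i2 hi1.rep
  haveI ha1 : IsClosedImmersion a1.left :=
    (repWith_yon_map_iff (P := (@IsClosedImmersion : MorphismProperty Scheme.{u})) a1).1 (repWith_of_isPullback sq12.flip hi2)
  haveI ha2 : IsClosedImmersion a2.left :=
    (repWith_yon_map_iff (P := (@IsClosedImmersion : MorphismProperty Scheme.{u})) a2).1 (repWith_of_isPullback sq12 hi1)
  haveI : IsAffine Z12.left := isAffine_of_isAffineHom a1.left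
  -- the ring
  let e1 := a1.left.appTop.hom
  let e2 := a2.left.appTop.hom
  let A : Subring (↑Γ(Z1.left, ⊤) × ↑Γ(Z2.left, ⊤)) :=
    (e1.comp (RingHom.fst _ _)).eqLocus (e2.comp (RingHom.snd _ _))
  let p1 : ↥A →+* ↑Γ(Z1.left, ⊤) := (RingHom.fst _ _).comp A.subtype
  let p2 : ↥A →+* ↑Γ(Z2.left, ⊤) := (RingHom.snd _ _).comp A.subtype
  have hA : ∀ a : ↥A, e1 (p1 a) = e2 (p2 a) := fun a => a.2
  have he1 : Function.Surjective e1 := ThickQuotLib.appTop_surjective_of_closedImmersion a1.left
  have he2 : Function.Surjective e2 := ThickQuotLib.appTop_surjective_of_closedImmersion a2.left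
  have hp1 : Function.Surjective p1 := fun x => ⟨⟨(x, (he2 (e1 x)).choose), (he2 (e1 x)).choose_spec.symm⟩, rfl⟩
  have hp2 : Function.Surjective p2 := fun x => ⟨⟨((he1 (e2 x)).choose, x), (he1 (e2 x)).choose_spec⟩, rfl⟩
  -- the scheme
  let R0 : CommRingCat.{u} := CommRingCat.of ↥A
  let z1 := IsOpenImmersion.lift S0.ι Z1.hom (by rintro _ ⟨z, rfl⟩; simpa using hz1 z)
  let z2 := IsOpenImmersion.lift S0.ι Z2.hom (by rintro _ ⟨z, rfl⟩; simpa using hz2 z)
  have hz1' : z1 ≫ S0.ι = Z1.hom := IsOpenImmersion.lift_fac _ _ _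
  have hz2' : z2 ≫ S0.ι = Z2.hom := IsOpenImmersion.lift_fac _ _ _
  have hz12 : a1.left ≫ z1 = a2.left ≫ z2 := by
    rw [← cancel_mono S0.ι, Category.assoc, Category.assoc, hz1', hz2', Over.w, Over.w]
  let lam : Γ(S0.toScheme, ⊤) ⟶ R0 := CommRingCat.ofHom ((RingHom.prod z1.appTop.hom z2.appTop.hom).codRestrict A
    fun x => by
      show (z1.appTop ≫ a1.left.appTop).hom x = (z2.appTop ≫ a2.left.appTop).hom x
      rw [← Scheme.Hom.comp_appTop, ← Scheme.Hom.comp_appTop, hz12])
  let ρ : Spec R0 ⟶ S := Spec.map lam ≫ S0.toScheme.isoSpec.inv ≫ S0.ι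
  let T : Over S := Over.mk ρ
  have hto : ∀ {X : Scheme.{u}} [IsAffine X] (k : R0 ⟶ Γ(X, ⊤)) (z : X ⟶ S0.toScheme),
      lam ≫ k = z.appTop → (X.isoSpec.hom ≫ Spec.map k) ≫ ρ = z ≫ S0.ι := fun {X} _ k z e => by
    rw [show (X.isoSpec.hom ≫ Spec.map k) ≫ ρ = X.isoSpec.hom ≫ (Spec.map k ≫ Spec.map lam) ≫
        S0.toScheme.isoSpec.inv ≫ S0.ι by simp only [ρ, Category.assoc],
      ← Spec.map_comp, e, ← Category.assoc, Scheme.isoSpec_hom_naturality, Category.assoc, Iso.hom_inv_id_assoc]
  let k1 : R0 ⟶ Γ(Z1.left, ⊤) := CommRingCat.ofHom p1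
  let k2 : R0 ⟶ Γ(Z2.left, ⊤) := CommRingCat.ofHom p2
  let ι1 : Z1 ⟶ T := Over.homMk (Z1.left.isoSpec.hom ≫ Spec.map k1) ((hto k1 z1 rfl).trans hz1')
  let ι2 : Z2 ⟶ T := Over.homMk (Z2.left.isoSpec.hom ≫ Spec.map k2) ((hto k2 z2 rfl).trans hz2')
  haveI : IsClosedImmersion (Spec.map k1) := IsClosedImmersion.spec_of_surjective k1 hp1
  haveI : IsClosedImmersion (Spec.map k2) := IsClosedImmersion.spec_of_surjective k2 hp2
  haveI : IsClosedImmersion ι1.left := inferInstanceAs (IsClosedImmersion (Z1.left.isoSpec.hom ≫ Spec.map k1))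
  haveI : IsClosedImmersion ι2.left := inferInstanceAs (IsClosedImmersion (Z2.left.isoSpec.hom ≫ Spec.map k2))
  haveI : Mono ι1 := (Over.forget S).mono_of_mono_map (inferInstanceAs (Mono ι1.left))
  haveI : Mono ι2 := (Over.forget S).mono_of_mono_map (inferInstanceAs (Mono ι2.left))
  -- the chart
  haveI : CompactSpace (Points O) := ⟨by
    have h : (Set.univ : Set (Points O)) = Set.range (Points.ofPt i1) ∪ Set.range (Points.ofPt i2) :=
      (Set.eq_univ_of_forall hcov).symm
    rw [h]
    exact (isCompact_range (Points.continuous_ofPt i1)).union (isCompact_range (Points.continuous_ofPt i2))⟩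
  obtain ⟨U, φ, hU, hφ, hφs⟩ := exists_affine_chart (isQuasiCompactSp_of_compactSpace hO inferInstance)
  haveI := hU
  haveI : IsReduced U.left := isReduced_of_chart hr hφ
  obtain ⟨U1, u1, π1, sq1⟩ := exists_isPullback_yon φ i1 hφ.rep
  obtain ⟨U2, u2, π2, sq2⟩ := exists_isPullback_yon φ i2 hφ.rep
  haveI : IsClosedImmersion u1.left :=
    (repWith_yon_map_iff (P := (@IsClosedImmersion : MorphismProperty Scheme.{u})) u1).1 (repWith_of_isPullback sq1.flip hi1)
  haveI : IsClosedImmersion u2.left :=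
    (repWith_yon_map_iff (P := (@IsClosedImmersion : MorphismProperty Scheme.{u})) u2).1 (repWith_of_isPullback sq2.flip hi2)
  haveI : Etale π1.left := etale_left (repWith_of_isPullback sq1 hφ)
  haveI : Etale π2.left := etale_left (repWith_of_isPullback sq2 hφ)
  haveI : IsAffine U1.left := isAffine_of_isAffineHom u1.left
  haveI : IsAffine U2.left := isAffine_of_isAffineHom u2.left
  have hU12 : ∀ x : U.left, x ∈ Set.range u1.left ∨ x ∈ Set.range u2.left := fun x => by
    rcases hcov (Points.ofPt φ x) with ⟨z, hz⟩ | ⟨z, hz⟩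
    · obtain ⟨w, hw, -⟩ := (ofPt_eq_ofPt_iff sq1 x z).1 hz.symm
      exact Or.inl ⟨w, hw⟩
    · obtain ⟨w, hw, -⟩ := (ofPt_eq_ofPt_iff sq2 x z).1 hz.symm
      exact Or.inr ⟨w, hw⟩
  let m1 : pullback u1 u2 ⟶ U1 := pullback.fst u1 u2
  let m2 : pullback u1 u2 ⟶ U2 := pullback.snd u1 u2
  have sqP : IsPullback m1 m2 u1 u2 := IsPullback.of_hasPullback u1 u2
  obtain ⟨c, hc⟩ := (yon S).map_surjective (sq12.lift ((yon S).map (m1 ≫ π1)) ((yon S).map (m2 ≫ π2)) (by
    rw [Functor.map_comp, Functor.map_comp, Category.assoc, Category.assoc, ← sq1.w, ← sq2.w,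
      ← Functor.map_comp_assoc, ← Functor.map_comp_assoc, sqP.w]))
  have hc1 : c ≫ a1 = m1 ≫ π1 := (yon S).map_injective (by rw [Functor.map_comp, hc, sq12.lift_fst])
  have hc2 : c ≫ a2 = m2 ≫ π2 := (yon S).map_injective (by rw [Functor.map_comp, hc, sq12.lift_snd])
  have sqc : IsPullback m2 c π2 a2 := by
    have big := (sqP.flip.map (yon S)).paste_vert sq1
    rw [sq2.w, ← Functor.map_comp, ← hc1, Functor.map_comp] at big
    exact IsPullback.of_map_of_faithful (yon S)
      (IsPullback.of_bot big (by rw [← Functor.map_comp, ← Functor.map_comp, hc2]) sq12.flip)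
  let s1 := u1.left.appTop.hom
  let s2 := u2.left.appTop.hom
  haveI : IsAffine (pullback u1 u2).left :=
    IsAffine.of_isPullback (isPullback_left (sqP.map (yon S)))
  let q1 := m1.left.appTop.hom
  let q2 := m2.left.appTop.hom
  have hs1 : Function.Surjective s1 := ThickQuotLib.appTop_surjective_of_closedImmersion u1.left
  have hs2 : Function.Surjective s2 := ThickQuotLib.appTop_surjective_of_closedImmersion u2.left
  have hq : ∀ b, q1 (s1 b) = q2 (s2 b) := fun b => by
    show (u1.left.appTop ≫ m1.left.appTop).hom b = (u2.left.appTop ≫ m2.left.appTop).hom b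
    rw [← Scheme.Hom.comp_appTop, ← Scheme.Hom.comp_appTop, ← Over.comp_left, ← Over.comp_left, sqP.w]
  have hker : RingHom.ker q2 = (RingHom.ker s1).map s2 :=
    (ThickQuotLib.surjective_and_ker_of_isPushout
      (isPushout_appTop_of_isPullback (isPullback_left (sqP.flip.map (yon S)))) hs1).2
  have hker' : RingHom.ker q2 = (RingHom.ker e2).map π2.left.appTop.hom :=
    (ThickQuotLib.surjective_and_ker_of_isPushout
      (isPushout_appTop_of_isPullback (isPullback_left (sqc.map (yon S)))) he2).2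
  have hinj := eq_zero_of_two u1.left u2.left hU12
  have hex : ∀ a : ↥A, ∃ b, s1 b = π1.left.appTop.hom (p1 a) ∧ s2 b = π2.left.appTop.hom (p2 a) := fun a => by
    refine exists_of_compat hs1 hs2 hq hker.le _ _ ?_
    show (π1.left.appTop ≫ m1.left.appTop).hom (p1 a) = (π2.left.appTop ≫ m2.left.appTop).hom (p2 a)
    rw [← Scheme.Hom.comp_appTop, ← Scheme.Hom.comp_appTop, ← Over.comp_left, ← Over.comp_left, ← hc1, ← hc2,
      Over.comp_left, Over.comp_left, Scheme.Hom.comp_appTop, Scheme.Hom.comp_appTop]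
    exact congrArg c.left.appTop.hom (hA a)
  choose b hb1 hb2 using hex
  let h : ↥A →+* ↑Γ(U.left, ⊤) :=
    { toFun := b
      map_one' := sub_eq_zero.1 (hinj _ (by simp [hb1, s1]) (by simp [hb2, s2]))
      map_mul' := fun x y => sub_eq_zero.1 (hinj _ (by simp [hb1, s1]) (by simp [hb2, s2]))
      map_zero' := sub_eq_zero.1 (hinj _ (by simp [hb1, s1]) (by simp [hb2, s2]))
      map_add' := fun x y => sub_eq_zero.1 (hinj _ (by simp [hb1, s1]) (by simp [hb2, s2])) }
  let k : R0 ⟶ Γ(U.left, ⊤) := CommRingCat.ofHom h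
  have hk1 : k ≫ u1.left.appTop = k1 ≫ π1.left.appTop := CommRingCat.hom_ext (RingHom.ext hb1)
  have hk2 : k ≫ u2.left.appTop = k2 ≫ π2.left.appTop := CommRingCat.hom_ext (RingHom.ext hb2)
  let zU := IsOpenImmersion.lift S0.ι U.hom (by
    rintro _ ⟨x, rfl⟩
    rcases hU12 x with ⟨y, rfl⟩ | ⟨y, rfl⟩
    · rw [← Scheme.Hom.comp_apply, Over.w, ← Over.w π1, Scheme.Hom.comp_apply]
      simpa using hz1 _
    · rw [← Scheme.Hom.comp_apply, Over.w, ← Over.w π2, Scheme.Hom.comp_apply]
      simpa using hz2 _)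
  have hzU : zU ≫ S0.ι = U.hom := IsOpenImmersion.lift_fac _ _ _
  have hkU : lam ≫ k = zU.appTop := by
    have h1 : u1.left ≫ zU = π1.left ≫ z1 := by
      rw [← cancel_mono S0.ι, Category.assoc, Category.assoc, hzU, hz1', Over.w, Over.w]
    have h2 : u2.left ≫ zU = π2.left ≫ z2 := by
      rw [← cancel_mono S0.ι, Category.assoc, Category.assoc, hzU, hz2', Over.w, Over.w]
    refine CommRingCat.hom_ext (RingHom.ext fun x => sub_eq_zero.1 (hinj _ ?_ ?_))
    · rw [map_sub, sub_eq_zero]
      show (lam ≫ k ≫ u1.left.appTop).hom x = (zU.appTop ≫ u1.left.appTop).hom x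
      rw [hk1, ← Scheme.Hom.comp_appTop, h1, Scheme.Hom.comp_appTop]
      rfl
    · rw [map_sub, sub_eq_zero]
      show (lam ≫ k ≫ u2.left.appTop).hom x = (zU.appTop ≫ u2.left.appTop).hom x
      rw [hk2, ← Scheme.Hom.comp_appTop, h2, Scheme.Hom.comp_appTop]
      rfl
  let g : U ⟶ T := Over.homMk (U.left.isoSpec.hom ≫ Spec.map k) ((hto k zU hkU).trans hzU)
  have hg1 : u1 ≫ g = π1 ≫ ι1 := Over.OverMorphism.ext (by
    show u1.left ≫ U.left.isoSpec.hom ≫ Spec.map k = π1.left ≫ Z1.left.isoSpec.hom ≫ Spec.map k1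
    rw [← Scheme.isoSpec_hom_naturality_assoc, ← Scheme.isoSpec_hom_naturality_assoc, ← Spec.map_comp,
      ← Spec.map_comp, hk1])
  have hg2 : u2 ≫ g = π2 ≫ ι2 := Over.OverMorphism.ext (by
    show u2.left ≫ U.left.isoSpec.hom ≫ Spec.map k = π2.left ≫ Z2.left.isoSpec.hom ≫ Spec.map k2
    rw [← Scheme.isoSpec_hom_naturality_assoc, ← Scheme.isoSpec_hom_naturality_assoc, ← Spec.map_comp,
      ← Spec.map_comp, hk2])
  -- the relation
  obtain ⟨R, p, q, sqR⟩ := exists_isPullback_yon φ φ hφ.rep
  haveI : Etale p.left := etale_left (repWith_of_isPullback sqR.flip hφ)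
  haveI : IsReduced R.left := isReduced_of_smooth p.left
  let w1 : pullback p u1 ⟶ R := pullback.fst p u1
  let w2 : pullback p u2 ⟶ R := pullback.fst p u2
  have hw : ∀ r : R.left, r ∈ Set.range w1.left ∨ r ∈ Set.range w2.left := fun r => by
    rcases hU12 (p.left r) with ⟨y, hy⟩ | ⟨y, hy⟩
    · obtain ⟨v, hv, -⟩ := Scheme.Pullback.exists_preimage_pullback r y hy.symm
      refine Or.inl ⟨(isPullback_left ((IsPullback.of_hasPullback p u1).map (yon S))).isoPullback.inv v, ?_⟩
      rw [← Scheme.Hom.comp_apply, IsPullback.isoPullback_inv_fst]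
      exact hv
    · obtain ⟨v, hv, -⟩ := Scheme.Pullback.exists_preimage_pullback r y hy.symm
      refine Or.inr ⟨(isPullback_left ((IsPullback.of_hasPullback p u2).map (yon S))).isoPullback.inv v, ?_⟩
      rw [← Scheme.Hom.comp_apply, IsPullback.isoPullback_inv_fst]
      exact hv
  obtain ⟨v1, hv1⟩ := (yon S).map_surjective (sq1.lift ((yon S).map (w1 ≫ q))
    ((yon S).map (pullback.snd p u1 ≫ π1)) (by
      rw [Functor.map_comp, Functor.map_comp, Category.assoc, Category.assoc, ← sqR.w, ← sq1.w,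
        ← Functor.map_comp_assoc, ← Functor.map_comp_assoc, ← pullback.condition]))
  obtain ⟨v2, hv2⟩ := (yon S).map_surjective (sq2.lift ((yon S).map (w2 ≫ q))
    ((yon S).map (pullback.snd p u2 ≫ π2)) (by
      rw [Functor.map_comp, Functor.map_comp, Category.assoc, Category.assoc, ← sqR.w, ← sq2.w,
        ← Functor.map_comp_assoc, ← Functor.map_comp_assoc, ← pullback.condition]))
  have hv1u : v1 ≫ u1 = w1 ≫ q := (yon S).map_injective (by rw [Functor.map_comp, hv1, sq1.lift_fst])
  have hv2u : v2 ≫ u2 = w2 ≫ q := (yon S).map_injective (by rw [Functor.map_comp, hv2, sq2.lift_fst])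
  have hv1p : v1 ≫ π1 = pullback.snd p u1 ≫ π1 := (yon S).map_injective (by rw [Functor.map_comp, hv1, sq1.lift_snd])
  have hv2p : v2 ≫ π2 = pullback.snd p u2 ≫ π2 := (yon S).map_injective (by rw [Functor.map_comp, hv2, sq2.lift_snd])
  have hpq1 : w1 ≫ p ≫ g = w1 ≫ q ≫ g := by
    rw [← Category.assoc, ← Category.assoc, pullback.condition, ← hv1u, Category.assoc, Category.assoc, hg1,
      reassoc_of% hv1p]
  have hpq2 : w2 ≫ p ≫ g = w2 ≫ q ≫ g := by
    rw [← Category.assoc, ← Category.assoc, pullback.condition, ← hv2u, Category.assoc, Category.assoc, hg2,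
      reassoc_of% hv2p]
  haveI : T.left.IsSeparated := inferInstanceAs (Spec R0).IsSeparated
  have hpq : p ≫ g = q ≫ g := Over.OverMorphism.ext
    (ext_of_two w1.left w2.left hw (congrArg Over.Hom.left hpq1) (congrArg Over.Hom.left hpq2))
  obtain ⟨f, hf⟩ := exists_desc_of_atlas hφ hφs ((yon S).map g) fun Z a a' e => by
    obtain ⟨l, hl⟩ := (yon S).map_surjective (sqR.lift _ _ e)
    have ea : l ≫ p = a := (yon S).map_injective (by rw [Functor.map_comp, hl, sqR.lift_fst])
    have ea' : l ≫ q = a' := (yon S).map_injective (by rw [Functor.map_comp, hl, sqR.lift_snd])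
    rw [← Functor.map_comp, ← Functor.map_comp, ← ea, ← ea', Category.assoc, Category.assoc, hpq]
  -- separatedness
  let P := pullback g g
  let ψ : R ⟶ P := pullback.lift p q hpq
  obtain ⟨l1, hl1⟩ := (yon S).map_surjective (sqR.lift
    ((yon S).map (pullback.fst (u1 ≫ g) (u1 ≫ g) ≫ u1)) ((yon S).map (pullback.snd (u1 ≫ g) (u1 ≫ g) ≫ u1)) (by
      have e : pullback.fst (u1 ≫ g) (u1 ≫ g) ≫ π1 = pullback.snd (u1 ≫ g) (u1 ≫ g) ≫ π1 := by
        rw [← cancel_mono ι1, Category.assoc, Category.assoc, ← hg1, pullback.condition]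
      rw [Functor.map_comp, Functor.map_comp, Category.assoc, Category.assoc, sq1.w, ← Functor.map_comp_assoc,
        ← Functor.map_comp_assoc, e]))
  obtain ⟨l2, hl2⟩ := (yon S).map_surjective (sqR.lift
    ((yon S).map (pullback.fst (u2 ≫ g) (u2 ≫ g) ≫ u2)) ((yon S).map (pullback.snd (u2 ≫ g) (u2 ≫ g) ≫ u2)) (by
      have e : pullback.fst (u2 ≫ g) (u2 ≫ g) ≫ π2 = pullback.snd (u2 ≫ g) (u2 ≫ g) ≫ π2 := by
        rw [← cancel_mono ι2, Category.assoc, Category.assoc, ← hg2, pullback.condition]
      rw [Functor.map_comp, Functor.map_comp, Category.assoc, Category.assoc, sq2.w, ← Functor.map_comp_assoc,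
        ← Functor.map_comp_assoc, e]))
  let M1 := pullback.map (u1 ≫ g) (u1 ≫ g) g g u1 u1 (𝟙 T) (by simp) (by simp)
  let M2 := pullback.map (u2 ≫ g) (u2 ≫ g) g g u2 u2 (𝟙 T) (by simp) (by simp)
  have hM1 : l1 ≫ ψ = M1 := by
    apply pullback.hom_ext
    · simp only [ψ, M1, Category.assoc, pullback.lift_fst]
      exact (yon S).map_injective (by rw [Functor.map_comp, hl1, sqR.lift_fst])
    · simp only [ψ, M1, Category.assoc, pullback.lift_snd]
      exact (yon S).map_injective (by rw [Functor.map_comp, hl1, sqR.lift_snd])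
  have hM2 : l2 ≫ ψ = M2 := by
    apply pullback.hom_ext
    · simp only [ψ, M2, Category.assoc, pullback.lift_fst]
      exact (yon S).map_injective (by rw [Functor.map_comp, hl2, sqR.lift_fst])
    · simp only [ψ, M2, Category.assoc, pullback.lift_snd]
      exact (yon S).map_injective (by rw [Functor.map_comp, hl2, sqR.lift_snd])
  haveI : IsClosedImmersion M1.left := pullback_map_closed rfl rfl
  haveI : IsClosedImmersion M2.left := pullback_map_closed rfl rfl
  have hψfst : ψ ≫ pullback.fst g g = p := pullback.lift_fst _ _ _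
  have hψsnd : ψ ≫ pullback.snd g g = q := pullback.lift_snd _ _ _
  haveI : Mono ψ := ⟨fun a a' e => (yon S).map_injective (sqR.hom_ext
    (by rw [← Functor.map_comp, ← Functor.map_comp, ← hψfst, reassoc_of% e])
    (by rw [← Functor.map_comp, ← Functor.map_comp, ← hψsnd, reassoc_of% e]))⟩
  haveI : Mono ((yon S).map ψ) := ⟨fun a a' e => sqR.hom_ext
    (by rw [← hψfst, Functor.map_comp, reassoc_of% e]) (by rw [← hψsnd, Functor.map_comp, reassoc_of% e])⟩
  haveI : Mono ψ.left := mono_left_of_mono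
  haveI : LocallyOfFiniteType ψ.left := by
    haveI : LocallyOfFiniteType (ψ.left ≫ (pullback.fst g g).left) := by
      rw [← Over.comp_left, hψfst]; infer_instance
    exact locallyOfFiniteType_of_comp ψ.left (pullback.fst g g).left
  have hsurj : Surjective (coprod.desc l1.left l2.left) := ⟨fun r => by
    rcases hw r with ⟨y, rfl⟩ | ⟨y, rfl⟩
    · let t : pullback p u1 ⟶ pullback (u1 ≫ g) (u1 ≫ g) := pullback.lift (pullback.snd p u1) v1 (by
        rw [← Category.assoc, ← Category.assoc, ← pullback.condition, hv1u, Category.assoc, Category.assoc, hpq1])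
      have ht : t ≫ l1 = w1 := by
        rw [← cancel_mono ψ, Category.assoc, hM1]
        apply pullback.hom_ext
        · simp only [M1, ψ, t, Category.assoc, pullback.lift_fst, pullback.lift_fst_assoc]
          exact pullback.condition.symm
        · simp only [M1, ψ, t, Category.assoc, pullback.lift_snd, pullback.lift_snd_assoc]
          exact hv1u
      refine ⟨(coprod.inl : _ ⟶ (pullback (u1 ≫ g) (u1 ≫ g)).left ⨿ (pullback (u2 ≫ g) (u2 ≫ g)).left) (t.left y), ?_⟩
      rw [← Scheme.Hom.comp_apply, coprod.inl_desc, ← Scheme.Hom.comp_apply, ← Over.comp_left, ht]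
    · let t : pullback p u2 ⟶ pullback (u2 ≫ g) (u2 ≫ g) := pullback.lift (pullback.snd p u2) v2 (by
        rw [← Category.assoc, ← Category.assoc, ← pullback.condition, hv2u, Category.assoc, Category.assoc, hpq2])
      have ht : t ≫ l2 = w2 := by
        rw [← cancel_mono ψ, Category.assoc, hM2]
        apply pullback.hom_ext
        · simp only [M2, ψ, t, Category.assoc, pullback.lift_fst, pullback.lift_fst_assoc]
          exact pullback.condition.symm
        · simp only [M2, ψ, t, Category.assoc, pullback.lift_snd, pullback.lift_snd_assoc]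
          exact hv2u
      refine ⟨(coprod.inr : _ ⟶ (pullback (u1 ≫ g) (u1 ≫ g)).left ⨿ (pullback (u2 ≫ g) (u2 ≫ g)).left) (t.left y), ?_⟩
      rw [← Scheme.Hom.comp_apply, coprod.inr_desc, ← Scheme.Hom.comp_apply, ← Over.comp_left, ht]⟩
  haveI : IsFinite (coprod.desc l1.left l2.left ≫ ψ.left) := by
    rw [coprod.desc_comp, ← Over.comp_left, ← Over.comp_left, hM1, hM2]
    infer_instance
  haveI : UniversallyClosed ψ.left := UniversallyClosed.of_comp_surjective (coprod.desc l1.left l2.left) ψ.left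
  haveI : IsClosedImmersion ψ.left := (IsClosedImmersion.iff_isProper_and_mono ψ.left).2 ⟨{}, inferInstance⟩
  have sqg : IsPullback ((yon S).map (pullback.fst g g)) ((yon S).map (pullback.snd g g)) (φ ≫ f) (φ ≫ f) := by
    rw [hf]; exact (IsPullback.of_hasPullback g g).map (yon S)
  have hsep : IsSeparatedMor f := by
    have hd : pullback.map φ φ (φ ≫ f) (φ ≫ f) (𝟙 _) (𝟙 _) f (by simp) (by simp) =
        sqR.isoPullback.inv ≫ (yon S).map ψ ≫ sqg.isoPullback.hom := by
      rw [Iso.eq_inv_comp]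
      apply pullback.hom_ext
      · simp only [Category.assoc, IsPullback.isoPullback_hom_fst, ← Functor.map_comp, hψfst]
        simp
      · simp only [Category.assoc, IsPullback.isoPullback_hom_snd, ← Functor.map_comp, hψsnd]
        simp
    refine repWith_of_etale_cover (P := (@IsClosedImmersion : MorphismProperty Scheme.{u}))
      (fun _ _ x (_ : IsClosedImmersion x) => (inferInstance : IsAffineHom x))
      ?_ ?_ (pullback_map_diagonal_isPullback φ φ f) ?_
    · exact MorphismProperty.pullbackMap (P := RepWith (S := S) @Etale) hφ hφ rfl rfl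
    · exact MorphismProperty.pullbackMap (P := RepWith (S := S) @Surjective) hφs hφs rfl rfl
    · rw [hd]
      exact MorphismProperty.RespectsIso.precomp _ _ _ (MorphismProperty.RespectsIso.postcomp _ _ _
        ((repWith_yon_map_iff (P := (@IsClosedImmersion : MorphismProperty Scheme.{u})) ψ).2 inferInstance))
  -- local quasi-finiteness
  have hft1 : (s1.comp h).FiniteType := by
    rw [show s1.comp h = π1.left.appTop.hom.comp p1 from RingHom.ext hb1]
    exact ((HasRingHomProperty.iff_of_isAffine (P := @LocallyOfFiniteType)).1 inferInstance).comp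
      (RingHom.FiniteType.of_surjective p1 hp1)
  have hft2 : (s2.comp h).FiniteType := by
    rw [show s2.comp h = π2.left.appTop.hom.comp p2 from RingHom.ext hb2]
    exact ((HasRingHomProperty.iff_of_isAffine (P := @LocallyOfFiniteType)).1 inferInstance).comp
      (RingHom.FiniteType.of_surjective p2 hp2)
  have hgft : h.FiniteType := by
    refine finiteType_of_two h hs1 hs2 hinj hft1 hft2 (hker.symm.le.trans (hker'.le.trans ?_))
    refine Ideal.map_le_iff_le_comap.2 fun x hx => ?_
    let a : ↥A := ⟨(0, x), show e1 0 = e2 x by rw [map_zero, RingHom.mem_ker.1 hx]⟩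
    have h0 : a ∈ RingHom.ker (s1.comp h) := (hb1 a).trans (map_zero π1.left.appTop.hom)
    have := Ideal.mem_map_of_mem (s2.comp h) h0
    rwa [show (s2.comp h) a = π2.left.appTop.hom x from hb2 a] at this
  haveI : LocallyOfFiniteType (Spec.map k) := (HasRingHomProperty.Spec_iff (P := @LocallyOfFiniteType)).2 hgft
  haveI : LocallyOfFiniteType g.left := inferInstanceAs (LocallyOfFiniteType (U.left.isoSpec.hom ≫ Spec.map k))
  haveI : LocallyQuasiFinite π1.left := locallyQuasiFinite_of_etale π1.left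
  haveI : LocallyQuasiFinite π2.left := locallyQuasiFinite_of_etale π2.left
  haveI : LocallyQuasiFinite ι1.left := LocallyQuasiFinite.of_injective ι1.left.isClosedEmbedding.injective
  haveI : LocallyQuasiFinite ι2.left := LocallyQuasiFinite.of_injective ι2.left.isClosedEmbedding.injective
  haveI : LocallyQuasiFinite (u1.left ≫ g.left) := by
    rw [← Over.comp_left, hg1, Over.comp_left]; infer_instance
  haveI : LocallyQuasiFinite (u2.left ≫ g.left) := by
    rw [← Over.comp_left, hg2, Over.comp_left]; infer_instance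
  haveI : LocallyQuasiFinite g.left := LocallyQuasiFinite.of_finite_preimage_singleton g.left fun t => by
    refine (((Scheme.Hom.finite_preimage_singleton (u1.left ≫ g.left) t).image u1.left).union
      ((Scheme.Hom.finite_preimage_singleton (u2.left ≫ g.left) t).image u2.left)).subset fun x hx => ?_
    rcases hU12 x with ⟨y, rfl⟩ | ⟨y, rfl⟩
    · exact Or.inl ⟨y, hx, rfl⟩
    · exact Or.inr ⟨y, hx, rfl⟩
  exact isRepSh_of_sep_lqf hO hsep (locP_of_chart (b₀ := 𝟙 _) (h₀ := g) hφ hφs (repWith_id _ _)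
    (by rw [Category.comp_id, hf]) ⟨inferInstance, inferInstance⟩)

end MinNonSchLib
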