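import Groth.Agent.MinNonSchLib.Glue
import Groth.Agent.AlgSpLib.OpenGlue
import Groth.Agent.AlgSpLib.UnivClosed
/-!
# A reduced space which is the union of two closed subspaces which are schemes is a scheme
-/

set_option autoImplicit false
set_option linter.all false
set_option backward.isDefEq.respectTransparency false
set_option backward.isDefEq.respectTransparency.types false

noncomputable section

universe u

open CategoryTheory CategoryTheory.Limits AlgebraicGeometry AlgSp AlgSpLib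

namespace MinNonSchLib

/-- Two affine opens with compatible traces near a common point. -/
theorem exists_compatible_basicOpen {P T1 T2 : Scheme.{u}} (a1 : P ⟶ T1) (a2 : P ⟶ T2) [IsClosedImmersion a1]
    [IsClosedImmersion a2] {V1 : T1.Opens} {V2 : T2.Opens} (h1 : IsAffineOpen V1) (h2 : IsAffineOpen V2) (p : P)
    (hp1 : a1 p ∈ V1) (hp2 : a2 p ∈ V2) :
    ∃ (W1 : T1.Opens) (W2 : T2.Opens), IsAffineOpen W1 ∧ IsAffineOpen W2 ∧ W1 ≤ V1 ∧ W2 ≤ V2 ∧
      a1 p ∈ W1 ∧ a1 ⁻¹ᵁ W1 = a2 ⁻¹ᵁ W2 := by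
  obtain ⟨f, g, hfg, hpf⟩ := exists_basicOpen_le_affine_inter (h1.preimage a1) (h2.preimage a2) p ⟨hp1, hp2⟩
  obtain ⟨f', hf'⟩ := a1.app_surjective V1 h1 f
  obtain ⟨g', hg'⟩ := a2.app_surjective V2 h2 g
  have e1 : a1 ⁻¹ᵁ T1.basicOpen f' = P.basicOpen f := by rw [Scheme.preimage_basicOpen]; exact congrArg _ hf'
  have e2 : a2 ⁻¹ᵁ T2.basicOpen g' = P.basicOpen g := by rw [Scheme.preimage_basicOpen]; exact congrArg _ hg'
  refine ⟨_, _, h1.basicOpen f', h2.basicOpen g', T1.basicOpen_le f', T2.basicOpen_le g', ?_, by rw [e1, e2, hfg]⟩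
  show p ∈ a1 ⁻¹ᵁ T1.basicOpen f'
  rw [e1]
  exact hpf

variable {S : Scheme.{u}}

theorem injective_ofPt_of_closedImmersion {X : Sp S} {T : Over S} {b : (yon S).obj T ⟶ X}
    (hb : RepWith @IsClosedImmersion b) : Function.Injective (Points.ofPt b) := by
  haveI : Mono b := mono_of_repWith (fun g (_ : IsClosedImmersion g) => (inferInstance : Mono g)) hb
  rw [ofPt_comp_ofScheme]
  exact (injective_map_of_mono b).comp (Points.schemeHomeo T).injective

theorem isClosed_ofPt_image {X : Sp S} (hX : IsAlgSpace X) {T : Over S} {b : (yon S).obj T ⟶ X}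
    (hb : RepWith @IsClosedImmersion b) {C : Set T.left} (hC : IsClosed C) : IsClosed (Points.ofPt b '' C) := by
  rw [ofPt_comp_ofScheme, Set.image_comp]
  exact isClosed_image_of_closedImmersion (IsAlgSpace.yon_obj T) hX hb ((Points.schemeHomeo T).isClosedMap _ hC)

/-- The open subspace cut out by compatible affine opens is a scheme. -/
theorem exists_open_scheme {X : Sp S} (hX : IsAlgSpace X) (hr : IsReducedSp X) {T1 T2 : Over S}
    {b1 : (yon S).obj T1 ⟶ X} {b2 : (yon S).obj T2 ⟶ X} (h1 : RepWith @IsClosedImmersion b1)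
    (h2 : RepWith @IsClosedImmersion b2)
    (hcov : ∀ x, x ∈ Set.range (Points.ofPt b1) ∨ x ∈ Set.range (Points.ofPt b2))
    (S0 : S.Opens) (hS0 : IsAffineOpen S0) (V1 : T1.left.Opens) (V2 : T2.left.Opens) (hV1 : IsAffineOpen V1)
    (hV2 : IsAffineOpen V2) (hz1 : ∀ y ∈ V1, T1.hom y ∈ S0) (hz2 : ∀ y ∈ V2, T2.hom y ∈ S0)
    (hc : ∀ y1 y2, Points.ofPt b1 y1 = Points.ofPt b2 y2 → (y1 ∈ V1 ↔ y2 ∈ V2)) :
    ∃ (W : Over S) (j : (yon S).obj W ⟶ X), RepWith @IsOpenImmersion j ∧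
      ∀ y ∈ V1, Points.ofPt b1 y ∈ Set.range (Points.map j) := by
  let O : Set (Points X) :=
    (Points.ofPt b1 '' (↑V1 : Set T1.left)ᶜ ∪ Points.ofPt b2 '' (↑V2 : Set T2.left)ᶜ)ᶜ
  have hO : IsOpen O := ((isClosed_ofPt_image hX h1 V1.2.isClosed_compl).union
    (isClosed_ofPt_image hX h2 V2.2.isClosed_compl)).isOpen_compl
  have hpre1 : ∀ y, Points.ofPt b1 y ∈ O ↔ y ∈ V1 := fun y => by
    constructor
    · intro h
      by_contra hy
      exact h (Or.inl ⟨y, hy, rfl⟩)
    · rintro hy (⟨z, hz, e⟩ | ⟨z, hz, e⟩)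
      · exact hz (injective_ofPt_of_closedImmersion h1 e ▸ hy)
      · exact hz ((hc y z e.symm).1 hy)
  have hpre2 : ∀ y, Points.ofPt b2 y ∈ O ↔ y ∈ V2 := fun y => by
    constructor
    · intro h
      by_contra hy
      exact h (Or.inr ⟨y, hy, rfl⟩)
    · rintro hy (⟨z, hz, e⟩ | ⟨z, hz, e⟩)
      · exact hz ((hc z y e).2 hy)
      · exact hz (injective_ofPt_of_closedImmersion h2 e ▸ hy)
  let ι := openSubι X O
  have hι : RepWith @IsOpenImmersion ι := repWith_openSubι X hO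
  have piece : ∀ {T : Over S} (b : (yon S).obj T ⟶ X), RepWith @IsClosedImmersion b → ∀ (V : T.left.Opens),
      IsAffineOpen V → (∀ y, Points.ofPt b y ∈ O ↔ y ∈ V) → (∀ y ∈ V, T.hom y ∈ S0) →
      ∃ (Z : Over S) (i : (yon S).obj Z ⟶ openSub X O), IsAffine Z.left ∧ RepWith @IsClosedImmersion i ∧
        (∀ z, Z.hom z ∈ S0) ∧ ∀ y : Points (openSub X O),
          Points.map ι y ∈ Set.range (Points.ofPt b) → y ∈ Set.range (Points.ofPt i) := by
    intro T b hb V hV hVO hVS
    let k := hι.rep.snd b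
    have sq : IsPullback (hι.rep.fst b) ((yon S).map k) ι b := hι.rep.isPullback b
    haveI : IsOpenImmersion k.left := hι.property b _ _ sq
    have hrange : k.left.opensRange = V := TopologicalSpace.Opens.ext (by
      ext y
      show y ∈ Set.range k.left ↔ y ∈ V
      rw [← hVO y]
      constructor
      · rintro ⟨w, rfl⟩
        rw [← ofPt_yon_comp, ← sq.w, ofPt_comp_ofScheme, Function.comp_apply, Points.map_comp]
        have := Set.mem_range_self (f := Points.map ι) (Points.map (hι.rep.fst b) (Points.schemeHomeo _ w))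
        rwa [range_openSubι] at this
      · intro h
        rw [← range_openSubι X (W := O)] at h
        obtain ⟨x, hx⟩ := h
        rw [ofPt_comp_ofScheme, Function.comp_apply] at hx
        obtain ⟨w, -, hw⟩ := exists_point_isPullback sq _ _ hx
        obtain ⟨w, rfl⟩ := (Points.schemeHomeo _).surjective w
        rw [Points.map_yon_map_apply] at hw
        exact ⟨w, (Points.schemeHomeo T).injective hw⟩)
    haveI : IsAffine k.left.opensRange.toScheme := hrange.symm ▸ hV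
    refine ⟨_, hι.rep.fst b, IsAffine.of_isIso k.left.isoOpensRange.hom, repWith_of_isPullback sq.flip hb,
      fun z => ?_, fun y hy => ?_⟩
    · have hk : k.left z ∈ V := hrange ▸ ⟨z, rfl⟩
      have := hVS _ hk
      rwa [← Scheme.Hom.comp_apply, Over.w] at this
    · obtain ⟨t, ht⟩ := hy
      rw [ofPt_comp_ofScheme, Function.comp_apply] at ht
      obtain ⟨w, hw, -⟩ := exists_point_isPullback sq _ _ ht.symm
      obtain ⟨w, rfl⟩ := (Points.schemeHomeo _).surjective w
      exact ⟨w, by rw [ofPt_comp_ofScheme, Function.comp_apply, hw]⟩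
  obtain ⟨Z1, i1, hA1, hi1, hs1, hc1⟩ := piece b1 h1 V1 hV1 hpre1 hz1
  obtain ⟨Z2, i2, hA2, hi2, hs2, hc2⟩ := piece b2 h2 V2 hV2 hpre2 hz2
  haveI := hA1
  haveI := hA2
  have hOalg : IsAlgSpace (openSub X O) := isAlgSpace_openSub hX hO
  have hOr : IsReducedSp (openSub X O) := isReducedSp_of_smooth hOalg hX
    (locP_of_repWith (repWith_mono (fun _ _ g (_ : IsOpenImmersion g) => (inferInstance : Smooth g)) hι)) hr
  obtain ⟨W, ⟨e⟩⟩ := isRepSh_of_two_affine hOalg hOr hi1 hi2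
    (fun y => (hcov (Points.map ι y)).imp (hc1 y) (hc2 y)) S0 hS0 hs1 hs2
  refine ⟨W, e.hom ≫ ι, repWith_comp (repWith_of_isIso e.hom) hι, fun y hy => ?_⟩
  have h := (hpre1 y).2 hy
  rw [← range_openSubι X (W := O)] at h
  obtain ⟨x, hx⟩ := h
  exact ⟨Points.map e.inv x, by rw [← Points.map_comp, e.inv_hom_id_assoc, hx]⟩

/-- A reduced space which is the union of two closed subspaces which are schemes is a scheme. -/
theorem isRepSh_of_union {X : Sp S} (hX : IsAlgSpace X) (hr : IsReducedSp X) {T1 T2 : Over S}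
    {b1 : (yon S).obj T1 ⟶ X} {b2 : (yon S).obj T2 ⟶ X} (h1 : RepWith @IsClosedImmersion b1)
    (h2 : RepWith @IsClosedImmersion b2)
    (hcov : ∀ x, x ∈ Set.range (Points.ofPt b1) ∨ x ∈ Set.range (Points.ofPt b2)) : IsRepSh X := by
  have hgood : ∀ {A B : Over S} {a : (yon S).obj A ⟶ X} {b : (yon S).obj B ⟶ X}, RepWith @IsClosedImmersion a →
      RepWith @IsClosedImmersion b → (∀ x, x ∈ Set.range (Points.ofPt a) ∨ x ∈ Set.range (Points.ofPt b)) →
      ∀ t : A.left, ∃ (W : Over S) (j : (yon S).obj W ⟶ X), RepWith @IsOpenImmersion j ∧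
        Points.ofPt a t ∈ Set.range (Points.map j) := by
    intro A B a b ha hb hcov t
    obtain ⟨S0, hS0, ht0, -⟩ := exists_isAffineOpen_mem_and_subset (U := ⊤) (x := A.hom t) trivial
    by_cases ht : Points.ofPt a t ∈ Set.range (Points.ofPt b)
    · obtain ⟨t2, ht2⟩ := ht
      obtain ⟨P, a1, a2, sq⟩ := exists_isPullback_yon a b ha.rep
      haveI : IsClosedImmersion a1.left :=
        (repWith_yon_map_iff (P := (@IsClosedImmersion : MorphismProperty Scheme.{u})) a1).1 (repWith_of_isPullback sq.flip hb)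
      haveI : IsClosedImmersion a2.left :=
        (repWith_yon_map_iff (P := (@IsClosedImmersion : MorphismProperty Scheme.{u})) a2).1 (repWith_of_isPullback sq ha)
      obtain ⟨p, hp1, hp2⟩ := (ofPt_eq_ofPt_iff sq t t2).1 ht2.symm
      have ht02 : B.hom t2 ∈ S0 := by
        rw [← hp2, ← Scheme.Hom.comp_apply, Over.w, ← Over.w a1, Scheme.Hom.comp_apply, hp1]
        exact ht0
      obtain ⟨V1, hV1, hm1, hle1⟩ := exists_isAffineOpen_mem_and_subset (U := A.hom ⁻¹ᵁ S0) (x := t) ht0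
      obtain ⟨V2, hV2, hm2, hle2⟩ := exists_isAffineOpen_mem_and_subset (U := B.hom ⁻¹ᵁ S0) (x := t2) ht02
      obtain ⟨W1, W2, hW1, hW2, hl1, hl2, hmem, heq⟩ := exists_compatible_basicOpen a1.left a2.left hV1 hV2 p
        (by rw [hp1]; exact hm1) (by rw [hp2]; exact hm2)
      obtain ⟨W, j, hj, hr'⟩ := exists_open_scheme hX hr ha hb hcov S0 hS0 W1 W2 hW1 hW2
        (fun y hy => hle1 (hl1 hy)) (fun y hy => hle2 (hl2 hy)) fun y1 y2 e => by
          obtain ⟨w, rfl, rfl⟩ := (ofPt_eq_ofPt_iff sq y1 y2).1 e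
          show w ∈ a1.left ⁻¹ᵁ W1 ↔ w ∈ a2.left ⁻¹ᵁ W2
          rw [heq]
      exact ⟨W, j, hj, hr' t (hp1 ▸ hmem)⟩
    · have hcl : IsClosed (Set.range (Points.ofPt b)) := by
        rw [← Set.image_univ]; exact isClosed_ofPt_image hX hb isClosed_univ
      let U : A.left.Opens :=
        A.hom ⁻¹ᵁ S0 ⊓ ⟨Points.ofPt a ⁻¹' (Set.range (Points.ofPt b))ᶜ, hcl.isOpen_compl.preimage (Points.continuous_ofPt a)⟩
      obtain ⟨V1, hV1, hm1, hle1⟩ := exists_isAffineOpen_mem_and_subset (U := U) (x := t) ⟨ht0, ht⟩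
      obtain ⟨W, j, hj, hr'⟩ := exists_open_scheme hX hr ha hb hcov S0 hS0 V1 ⊥ hV1 (isAffineOpen_bot _)
        (fun y hy => (hle1 hy).1) (fun y hy => hy.elim) fun y1 y2 e => by
          constructor
          · intro h; exact ((hle1 h).2 ⟨y2, e.symm⟩).elim
          · intro h; exact h.elim
      exact ⟨W, j, hj, hr' t hm1⟩
  have key : ∀ x : Points X, ∃ (W : Over S) (j : (yon S).obj W ⟶ X), RepWith @IsOpenImmersion j ∧
      x ∈ Set.range (Points.map j) := fun x => by
    rcases hcov x with ⟨t, rfl⟩ | ⟨t, rfl⟩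
    exacts [hgood h1 h2 hcov t, hgood h2 h1 (fun x => (hcov x).symm) t]
  choose W j hj hx using fun t : T1.left ⊕ T2.left => key (Sum.elim (Points.ofPt b1) (Points.ofPt b2) t)
  refine isRepSh_of_openCover j hj fun T b t => ?_
  have hi : ∃ i, Points.ofPt b t ∈ Set.range (Points.map (j i)) := by
    rcases hcov (Points.ofPt b t) with ⟨y, hy⟩ | ⟨y, hy⟩
    · exact ⟨Sum.inl y, hy ▸ hx (Sum.inl y)⟩
    · exact ⟨Sum.inr y, hy ▸ hx (Sum.inr y)⟩
  obtain ⟨i, z, hz⟩ := hi
  obtain ⟨z, rfl⟩ := (Points.schemeHomeo _).surjective z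
  have e : Points.ofPt b t = Points.ofPt (j i) z := by rw [← hz, ofPt_comp_ofScheme]; rfl
  obtain ⟨w, -, hw⟩ := (ofPt_eq_ofPt_iff ((hj i).rep.isPullback' b) z t).1 e.symm
  exact ⟨i, w, hw⟩

end MinNonSchLib
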