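import Mathlib.RingTheory.FiniteType
import Mathlib.RingTheory.Ideal.Maps
/-!
# Rings glued along two surjections
-/

set_option autoImplicit false
set_option linter.all false

universe u

namespace MinNonSchLib

variable {A B B1 B2 B12 : Type u} [CommRing A] [CommRing B] [CommRing B1] [CommRing B2] [CommRing B12]
  {s1 : B →+* B1} {s2 : B →+* B2}

/-- Elements of the two quotients which agree in the common quotient come from the ring. -/
theorem exists_of_compat (hs1 : Function.Surjective s1) (hs2 : Function.Surjective s2) {q1 : B1 →+* B12}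
    {q2 : B2 →+* B12} (hq : ∀ b, q1 (s1 b) = q2 (s2 b)) (hker : RingHom.ker q2 ≤ (RingHom.ker s1).map s2)
    (b1 : B1) (b2 : B2) (h : q1 b1 = q2 b2) : ∃ b, s1 b = b1 ∧ s2 b = b2 := by
  obtain ⟨b, rfl⟩ := hs1 b1
  have hm : b2 - s2 b ∈ (RingHom.ker s1).map s2 := hker (by rw [RingHom.mem_ker, map_sub, ← hq, h, sub_self])
  obtain ⟨j, hj, hj2⟩ := (Ideal.mem_map_iff_of_surjective s2 hs2).1 hm
  exact ⟨b + j, by rw [map_add, RingHom.mem_ker.1 hj, add_zero], by rw [map_add, hj2, add_sub_cancel]⟩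

/-- A ring with two jointly injective finite type quotients is of finite type, if the kernel of one quotient
is generated in the other by elements of the base. -/
theorem finiteType_of_two (h : A →+* B) (hs1 : Function.Surjective s1) (hs2 : Function.Surjective s2)
    (hinj : ∀ b, s1 b = 0 → s2 b = 0 → b = 0) (h1 : (s1.comp h).FiniteType) (h2 : (s2.comp h).FiniteType)
    (hk : (RingHom.ker s1).map s2 ≤ (RingHom.ker (s1.comp h)).map (s2.comp h)) : h.FiniteType := by
  classical
  letI := h.toAlgebra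
  letI := (s1.comp h).toAlgebra
  letI := (s2.comp h).toAlgebra
  let t1 : B →ₐ[A] B1 := ⟨s1, fun a => rfl⟩
  let t2 : B →ₐ[A] B2 := ⟨s2, fun a => rfl⟩
  obtain ⟨G1, hG1⟩ := (show Algebra.FiniteType A B1 from h1).out
  obtain ⟨G2, hG2⟩ := (show Algebra.FiniteType A B2 from h2).out
  let C : Subalgebra A B := Algebra.adjoin A
    (↑(G1.image (Function.surjInv hs1) ∪ G2.image (Function.surjInv hs2)) : Set B)
  have hC1 : ∀ y, ∃ c ∈ C, s1 c = y := fun y => by
    have hle : Algebra.adjoin A (G1 : Set B1) ≤ C.map t1 := Algebra.adjoin_le fun x hx =>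
      ⟨Function.surjInv hs1 x, Algebra.subset_adjoin (Finset.mem_coe.2 (Finset.mem_union_left _
        (Finset.mem_image_of_mem _ hx))), Function.surjInv_eq hs1 x⟩
    exact hle (hG1 ▸ Algebra.mem_top)
  have hC2 : ∀ y, ∃ c ∈ C, s2 c = y := fun y => by
    have hle : Algebra.adjoin A (G2 : Set B2) ≤ C.map t2 := Algebra.adjoin_le fun x hx =>
      ⟨Function.surjInv hs2 x, Algebra.subset_adjoin (Finset.mem_coe.2 (Finset.mem_union_right _
        (Finset.mem_image_of_mem _ hx))), Function.surjInv_eq hs2 x⟩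
    exact hle (hG2 ▸ Algebra.mem_top)
  have hJ : ∀ y ∈ (RingHom.ker (s1.comp h)).map (s2.comp h), ∃ c ∈ C, s1 c = 0 ∧ s2 c = y := fun y hy => by
    rw [Ideal.map] at hy
    induction hy using Submodule.span_induction with
    | mem x hx =>
      obtain ⟨a, ha, rfl⟩ := hx
      exact ⟨h a, C.algebraMap_mem a, ha, rfl⟩
    | zero => exact ⟨0, C.zero_mem, map_zero _, map_zero _⟩
    | add x x' _ _ hx hx' =>
      obtain ⟨c, hc, h0, rfl⟩ := hx
      obtain ⟨c', hc', h0', rfl⟩ := hx'
      exact ⟨c + c', C.add_mem hc hc', by rw [map_add, h0, h0', add_zero], map_add _ _ _⟩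
    | smul r x _ hx =>
      obtain ⟨c, hc, h0, rfl⟩ := hx
      obtain ⟨c', hc', rfl⟩ := hC2 r
      exact ⟨c' * c, C.mul_mem hc' hc, by rw [map_mul, h0, mul_zero], map_mul _ _ _⟩
  refine (⟨⟨G1.image (Function.surjInv hs1) ∪ G2.image (Function.surjInv hs2), eq_top_iff.2 fun b _ => ?_⟩⟩ :
    Algebra.FiniteType A B)
  obtain ⟨c, hc, e⟩ := hC1 (s1 b)
  have h0 : s1 (b - c) = 0 := by rw [map_sub, e, sub_self]
  obtain ⟨c', hc', h0', e'⟩ := hJ _ (hk (Ideal.mem_map_of_mem s2 (RingHom.mem_ker.2 h0)))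
  have e'' : b - c = c' := sub_eq_zero.1 (hinj _ (by rw [map_sub, h0, h0', sub_zero]) (by rw [map_sub (s2), e', sub_self]))
  rw [eq_add_of_sub_eq e'']
  exact C.add_mem hc' hc

end MinNonSchLib
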